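import Mathlib.AlgebraicGeometry.Morphisms.SchemeTheoreticallyDominant
import Mathlib.AlgebraicGeometry.Morphisms.Immersion

set_option autoImplicit false
universe u

open CategoryTheory Limits AlgebraicGeometry

namespace Groth.Agent.SchDense58

variable {X Y : Scheme.{u}}

/-- For a reduced source, the vanishing ideal of the closure of the range lies in the kernel. -/
lemma vanishingIdeal_le_ker [IsReduced X] (f : X ⟶ Y) :
    Scheme.IdealSheafData.vanishingIdeal ⟨closure (Set.range f), isClosed_closure⟩ ≤ f.ker := by
  refine Scheme.IdealSheafData.le_ofIdeals_iff.mpr fun U s hs => ?_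
  rw [RingHom.mem_ker]
  apply (basicOpen_eq_bot_iff (f.app U s)).mp
  rw [← Scheme.preimage_basicOpen, eq_bot_iff]
  intro x hx
  have hU : f x ∈ U.1 := Y.basicOpen_le s hx
  have h0 : f x ∈ (Scheme.IdealSheafData.vanishingIdeal
      ⟨closure (Set.range f), isClosed_closure⟩).support := by
    refine (Scheme.IdealSheafData.le_support_iff_le_vanishingIdeal.mpr le_rfl)
      (subset_closure ⟨x, rfl⟩ : f x ∈ closure (Set.range f))
  have h1 : f x ∈ Y.zeroLocus _ ∩ (U.1 : Set Y) :=
    (Scheme.IdealSheafData.coe_support_inter _ U).le ⟨h0, hU⟩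
  exact (Scheme.mem_zeroLocus_iff _ _ _).mp h1.1 s hs hx

lemma isDominant_of_isReduced [IsReduced X] (f : X ⟶ Y) [IsSchemeTheoreticallyDominant f] :
    IsDominant f ∧ IsReduced Y := by
  have h := vanishingIdeal_le_ker f
  rw [f.ker_eq_bot, le_bot_iff] at h
  have hz : (⟨closure (Set.range f), isClosed_closure⟩ : TopologicalSpace.Closeds Y) = ⊤ := by
    rw [eq_top_iff]
    have h0 : (⊤ : TopologicalSpace.Closeds Y) ≤
        (Scheme.IdealSheafData.vanishingIdeal
          ⟨closure (Set.range f), isClosed_closure⟩).support := by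
      rw [h, Scheme.IdealSheafData.support_bot]
    refine h0.trans_eq ?_
    apply SetLike.coe_injective
    exact Scheme.IdealSheafData.coe_support_vanishingIdeal _
  have hn : Y.nilradical = ⊥ := by
    rw [← Scheme.IdealSheafData.vanishingIdeal_top, ← hz, h]
  refine ⟨⟨dense_iff_closure_eq.mpr congr(($hz : Set Y))⟩, ?_⟩
  have : ∀ U : Y.affineOpens, _root_.IsReduced Γ(Y, U.1) := fun U => by
    refine ⟨fun a ha => ?_⟩
    have h2 : a ∈ Y.nilradical.ideal U := by
      simpa [Scheme.nilradical, Ideal.mem_radical_iff, IsNilpotent] using (show IsNilpotent a from ha)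
    simpa [hn] using h2
  suffices ∀ i, AlgebraicGeometry.IsReduced (Y.affineCover.X i) from IsReduced.of_openCover _ Y.affineCover
  exact fun i => by
    have h3 := this ⟨_, isAffineOpen_opensRange (Y.affineCover.f i)⟩
    have h4 : IsAffine (Y.affineCover.f i).opensRange := isAffineOpen_opensRange _
    have : _root_.IsReduced Γ((Y.affineCover.f i).opensRange, ⊤) :=
      isReduced_of_injective (Y.affineCover.f i).opensRange.topIso.hom.hom
        (ConcreteCategory.bijective_of_isIso (Y.affineCover.f i).opensRange.topIso.hom).1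
    have : AlgebraicGeometry.IsReduced (Y.affineCover.f i).opensRange :=
      isReduced_of_isAffine_isReduced _
    exact isReduced_of_isOpenImmersion (Scheme.Hom.isoOpensRange (Y.affineCover.f i)).hom

lemma schDense_of_reduced (U : X.Opens) [IsReduced (↑U : Scheme.{u})]
    [IsSchemeTheoreticallyDominant U.ι] (W : X.Opens) :
    IsSchemeTheoreticallyDominant (X.homOfLE (inf_le_right : U ⊓ W ≤ W)) := by
  obtain ⟨hd, hr⟩ := isDominant_of_isReduced U.ι
  have : IsDominant (X.homOfLE (inf_le_right : U ⊓ W ≤ W)) := by
    refine ⟨?_⟩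
    rw [DenseRange, ← Scheme.Hom.coe_opensRange, Scheme.opensRange_homOfLE]
    have hU : Dense (U : Set X) := by simpa [DenseRange] using hd.denseRange
    have : (W.ι ⁻¹ᵁ (U ⊓ W) : Set W.toScheme) = Subtype.val ⁻¹' (U : Set X) := by
      ext ⟨x, hx⟩
      exact ⟨fun h => h.1, fun h => ⟨h, hx⟩⟩
    rw [this]
    exact hU.preimage W.2.isOpenMap_subtype_val
  exact .of_isDominant _

lemma toImage_ker_eq_bot (f : X ⟶ Y) : f.toImage.ker = ⊥ := by
  let K := f.toImage.ker
  have h : (K.subschemeι ≫ f.imageι).ker = f.imageι.ker := by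
    rw [Scheme.Hom.ker_comp, Scheme.IdealSheafData.ker_subschemeι, ← Scheme.Hom.ker_comp,
      Scheme.Hom.toImage_imageι, Scheme.Hom.imageι, Scheme.IdealSheafData.ker_subschemeι]
  have : IsIso (IsClosedImmersion.lift f.imageι (K.subschemeι ≫ f.imageι) h.ge) :=
    IsClosedImmersion.isIso_lift f.imageι (K.subschemeι ≫ f.imageι) h.symm
  have h2 : IsClosedImmersion.lift f.imageι (K.subschemeι ≫ f.imageι) h.ge = K.subschemeι := by
    rw [← cancel_mono f.imageι]; simp
  rw [h2] at this
  exact (Scheme.isIso_subschemeι_iff_eq_bot K).mp this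

instance toImage_isSchemeTheoreticallyDominant (f : X ⟶ Y) :
    IsSchemeTheoreticallyDominant f.toImage := ⟨toImage_ker_eq_bot f⟩

lemma isOpenImmersion_of_isImmersion_of_isReduced [IsReduced Y] (f : X ⟶ Y) [IsImmersion f]
    [IsDominant f] : IsOpenImmersion f := by
  have : IsReduced f.coborderRange := isReduced_of_isOpenImmersion f.coborderRange.ι
  have hd : Dense (Set.range f.liftCoborder) := by
    rw [f.coborderRange.ι.isEmbedding.isInducing.dense_iff]
    intro z
    rw [← Set.range_comp]
    have : (f.coborderRange.ι ∘ f.liftCoborder : X → Y) = f := by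
      funext x; exact congr($(f.liftCoborder_ι) x)
    rw [this]
    exact f.denseRange _
  have : Surjective f.liftCoborder := ⟨Set.range_eq_univ.mp
    (by rw [← (f.liftCoborder.isClosedEmbedding.isClosed_range).closure_eq, hd.closure_eq])⟩
  have := isIso_of_isClosedImmersion_of_surjective f.liftCoborder
  rw [← f.liftCoborder_ι]
  infer_instance

lemma schDense_of_quasiCompact (U : X.Opens) [IsSchemeTheoreticallyDominant U.ι] [QuasiCompact U.ι]
    (W : X.Opens) : IsSchemeTheoreticallyDominant (X.homOfLE (inf_le_right : U ⊓ W ≤ W)) :=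
  IsSchemeTheoreticallyDominant.of_isPullback (isPullback_opens_inf U W)

lemma toImage_schDense {Z : Scheme.{u}} (h : Z ⟶ X) [IsImmersion h]
    (hyp : QuasiCompact h ∨ IsReduced Z) :
    ∃ hI : IsOpenImmersion h.toImage,
      (∀ W : h.image.Opens, IsSchemeTheoreticallyDominant
          (h.image.homOfLE (inf_le_right : @Scheme.Hom.opensRange _ _ h.toImage hI ⊓ W ≤ W))) ∧
        DenseRange h.toImage.base := by
  have hI : IsOpenImmersion h.toImage := by
    rcases hyp with hq | hr
    · infer_instance
    · obtain ⟨hd, hred⟩ := isDominant_of_isReduced h.toImage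
      exact isOpenImmersion_of_isImmersion_of_isReduced h.toImage
  let R := h.toImage.opensRange
  have e : R.ι = h.toImage.isoOpensRange.inv ≫ h.toImage := by simp [R]
  have : IsSchemeTheoreticallyDominant R.ι := by rw [e]; infer_instance
  refine ⟨hI, fun W => ?_, ?_⟩
  · rcases hyp with hq | hr
    · have : QuasiCompact R.ι := by rw [e]; infer_instance
      exact schDense_of_quasiCompact R W
    · have : IsReduced (R : Scheme) := isReduced_of_isOpenImmersion h.toImage.isoOpensRange.inv
      exact schDense_of_reduced R W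
  · rcases hyp with hq | hr
    · exact h.toImage.denseRange
    · have := (isDominant_of_isReduced h.toImage).1
      exact h.toImage.denseRange

end Groth.Agent.SchDense58
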